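import Mathlib

/-!
# Basic elements and free submodules in low height

If a finite module over a Noetherian ring is free of rank `r` at every prime of height at most `k`
and no associated prime of the ring has height above `k`, it has a free submodule of rank `r - k`
whose quotient is free of rank `k` at those primes (Serre; Eisenbud–Evans shearing).
-/

set_option autoImplicit false

universe u v

open Module

namespace Groth.Agent.SerreBasicLib

variable {A : Type u} [CommRing A] {M : Type v} [AddCommGroup M] [Module A M]

section fibre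

variable (p : PrimeSpectrum A) {r : ℕ}
  (e : LocalizedModule p.asIdeal.primeCompl M ≃ₗ[Localization.AtPrime p.asIdeal]
    (Fin r → Localization.AtPrime p.asIdeal))

/-- Coordinates of the localization of an element. -/
noncomputable def coord : M →ₗ[A] (Fin r → Localization.AtPrime p.asIdeal) :=
  (e.restrictScalars A).toLinearMap ∘ₗ LocalizedModule.mkLinearMap p.asIdeal.primeCompl M

/-- Coordinates of the image of an element in the fibre at `p`. -/
noncomputable def chi : M →ₗ[A] (Fin r → p.asIdeal.ResidueField) :=
  ((IsScalarTower.toAlgHom A (Localization.AtPrime p.asIdeal)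
    p.asIdeal.ResidueField).toLinearMap.compLeft (Fin r)) ∘ₗ coord p e

theorem chi_apply (x : M) (i : Fin r) :
    chi p e x i = IsLocalRing.residue (Localization.AtPrime p.asIdeal) (coord p e x i) := rfl

theorem exists_coord_eq_smul (y : Fin r → Localization.AtPrime p.asIdeal) :
    ∃ (x : M) (s : A), s ∉ p.asIdeal ∧ coord p e x = s • y := by
  obtain ⟨⟨x, s⟩, hxs⟩ :=
    IsLocalizedModule.surj p.asIdeal.primeCompl (LocalizedModule.mkLinearMap _ M) (e.symm y)
  refine ⟨x, (s : A), s.2, ?_⟩
  show e (LocalizedModule.mkLinearMap p.asIdeal.primeCompl M x) = (s : A) • y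
  have h2 : ((s : A) • e.symm y) = LocalizedModule.mkLinearMap p.asIdeal.primeCompl M x := hxs
  rw [← h2, show e ((s : A) • e.symm y) = (e.restrictScalars A) ((s : A) • e.symm y) from rfl, map_smul]
  simp

theorem span_range_chi : Submodule.span p.asIdeal.ResidueField (Set.range (chi p e)) = ⊤ := by
  rw [eq_top_iff]
  intro v _
  choose y hy using fun i => IsLocalRing.residue_surjective (R := Localization.AtPrime p.asIdeal) (v i)
  obtain ⟨x, s, hs, hx⟩ := exists_coord_eq_smul p e y
  have hs' : algebraMap A p.asIdeal.ResidueField s ≠ 0 := by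
    rwa [Ne, Ideal.algebraMap_residueField_eq_zero]
  have : v = (algebraMap A p.asIdeal.ResidueField s)⁻¹ • chi p e x := by
    funext i
    rw [Pi.smul_apply, smul_eq_mul, chi_apply, hx, Pi.smul_apply, Algebra.smul_def s, map_mul, hy,
      ← mul_assoc]
    rw [show IsLocalRing.residue _ (algebraMap A (Localization.AtPrime p.asIdeal) s) =
      algebraMap A p.asIdeal.ResidueField s from rfl, inv_mul_cancel₀ hs', one_mul]
  rw [this]
  exact Submodule.smul_mem _ _ (Submodule.subset_span ⟨x, rfl⟩)

/-- Nakayama: a submodule spans the fibre iff the quotient vanishes at `p`. -/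
theorem span_chi_eq_top_iff (W : Submodule A M) :
    Submodule.span p.asIdeal.ResidueField (chi p e '' (W : Set M)) = ⊤ ↔
      p ∉ Module.support A (M ⧸ W) := by
  classical
  rw [Module.notMem_support_iff']
  constructor
  · intro h q
    obtain ⟨x, rfl⟩ := Submodule.mkQ_surjective W q
    let R := Localization.AtPrime p.asIdeal
    let W' : Submodule R (Fin r → R) := Submodule.span R (coord p e '' (W : Set M))
    let red : (Fin r → R) →ₗ[R] (Fin r → p.asIdeal.ResidueField) :=
      (Algebra.linearMap R p.asIdeal.ResidueField).compLeft (Fin r)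
    have hW' : W' = ⊤ := by
      rw [eq_top_iff]
      refine Submodule.le_of_le_smul_of_le_jacobson_bot (I := IsLocalRing.maximalIdeal R)
        (Module.Finite.fg_top) (IsLocalRing.maximalIdeal_le_jacobson ⊥) ?_
      intro y _
      have hy : red y ∈ Submodule.span p.asIdeal.ResidueField (chi p e '' (W : Set M)) := by
        rw [h]; exact Submodule.mem_top
      rw [← SetLike.mem_coe, Submodule.coe_span_eq_span_of_surjective R p.asIdeal.ResidueField
        IsLocalRing.residue_surjective] at hy
      have himg : (chi p e '' (W : Set M)) = red '' (coord p e '' (W : Set M)) := by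
        rw [Set.image_image]; rfl
      rw [SetLike.mem_coe, himg, Submodule.span_image] at hy
      obtain ⟨z, hz, hzy⟩ := hy
      have : y = z + (y - z) := by abel
      rw [this]
      refine Submodule.add_mem_sup hz ?_
      rw [pi_eq_sum_univ (y - z)]
      refine Submodule.sum_mem _ fun i _ => Submodule.smul_mem_smul ?_ Submodule.mem_top
      rw [← IsLocalRing.residue_eq_zero_iff, Pi.sub_apply, map_sub, sub_eq_zero]
      exact (congrFun hzy i).symm
    have hx : coord p e x ∈ Submodule.span R ((coord p e '' (W : Set M))) := by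
      show coord p e x ∈ W'
      rw [hW']; exact Submodule.mem_top
    have hloc : ∀ y ∈ Submodule.span R ((coord p e '' (W : Set M))), ∃ (w : M) (s : A),
        w ∈ W ∧ s ∉ p.asIdeal ∧ s • y = coord p e w := by
      intro y hy
      induction hy using Submodule.span_induction with
      | mem y hy =>
          obtain ⟨w, hw, rfl⟩ := hy
          exact ⟨w, 1, hw, fun h1 => p.isPrime.ne_top ((Ideal.eq_top_iff_one _).2 h1), one_smul _ _⟩
      | zero => exact ⟨0, 1, W.zero_mem, fun h1 => p.isPrime.ne_top ((Ideal.eq_top_iff_one _).2 h1),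
          by rw [smul_zero, map_zero]⟩
      | add y y' _ _ ih ih' =>
          obtain ⟨w, s, hw, hs, hsy⟩ := ih
          obtain ⟨w', s', hw', hs', hsy'⟩ := ih'
          refine ⟨s' • w + s • w', s * s', W.add_mem (W.smul_mem _ hw) (W.smul_mem _ hw'),
            fun hm => (p.isPrime.mem_or_mem hm).elim hs hs', ?_⟩
          rw [map_add, map_smul, map_smul, ← hsy, ← hsy', smul_smul, smul_smul, mul_comm s' s,
            smul_add]
      | smul c y _ ih =>
          obtain ⟨w, s, hw, hs, hsy⟩ := ih
          obtain ⟨⟨a, t⟩, hat⟩ := IsLocalization.surj p.asIdeal.primeCompl c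
          refine ⟨a • w, (t : A) * s, W.smul_mem _ hw,
            fun hm => (p.isPrime.mem_or_mem hm).elim t.2 hs, ?_⟩
          rw [map_smul, ← hsy, ← smul_smul, smul_comm s c y, ← smul_assoc,
            show (t : A) • c = algebraMap A R a from by rw [Algebra.smul_def, mul_comm]; exact hat,
            algebraMap_smul]
    obtain ⟨w, s, hw, hs, hsx⟩ := hloc _ hx
    rw [← map_smul] at hsx
    have hsx' : LocalizedModule.mkLinearMap p.asIdeal.primeCompl M (s • x) =
        LocalizedModule.mkLinearMap p.asIdeal.primeCompl M w := e.injective hsx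
    obtain ⟨t, ht⟩ := (IsLocalizedModule.eq_iff_exists p.asIdeal.primeCompl _).1 hsx'
    refine ⟨(t : A) * s, fun hm => (p.isPrime.mem_or_mem hm).elim t.2 hs, ?_⟩
    rw [Submodule.mkQ_apply, ← Submodule.Quotient.mk_smul, Submodule.Quotient.mk_eq_zero,
      mul_smul]
    change (t : A) • s • x ∈ W
    rw [show (t : A) • s • x = (t : A) • w from ht]
    exact W.smul_mem _ hw
  · intro h
    rw [eq_top_iff, ← span_range_chi p e, Submodule.span_le]
    rintro _ ⟨x, rfl⟩
    obtain ⟨s, hs, hsx⟩ := h (W.mkQ x)
    rw [Submodule.mkQ_apply, ← Submodule.Quotient.mk_smul, Submodule.Quotient.mk_eq_zero] at hsx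
    have hs' : algebraMap A p.asIdeal.ResidueField s ≠ 0 := by
      rwa [Ne, Ideal.algebraMap_residueField_eq_zero]
    have : chi p e x = (algebraMap A p.asIdeal.ResidueField s)⁻¹ • chi p e (s • x) := by
      rw [map_smul, ← algebraMap_smul p.asIdeal.ResidueField s (chi p e x), inv_smul_smul₀ hs']
    rw [this]
    exact Submodule.smul_mem _ _ (Submodule.subset_span ⟨_, hsx, rfl⟩)

end fibre

/-- The shearing `w i ↦ w i + a i • w last`, dropping the last vector. -/
def shear {n : ℕ} (w : Fin (n + 1) → M) (a : Fin n → A) : Fin n → M :=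
  fun i => w i.castSucc + a i • w (Fin.last n)

theorem shear_good {K : Type*} [Field K] [Algebra A K] {V : Type*} [AddCommGroup V] [Module K V]
    [Module A V] [IsScalarTower A K V] {n : ℕ} (f : M →ₗ[A] V) (w : Fin (n + 1) → M)
    (a : Fin n → A) (hdep : ¬ LinearIndependent K (f ∘ w))
    (hbad : f (w (Fin.last n)) ∉ Submodule.span K (Set.range (f ∘ shear w a))) :
    ∃ i : Fin n, ∀ b : A, algebraMap A K b ≠ 0 →
      f (w (Fin.last n)) ∈ Submodule.span K (Set.range (f ∘ shear w (a + Pi.single i b))) := by
  classical
  rw [Fintype.linearIndependent_iff] at hdep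
  push Not at hdep
  obtain ⟨c, hc, j, hj⟩ := hdep
  have key : ∀ a' : Fin n → A, ∑ i, c i.castSucc • f (shear w a' i) =
      ((∑ i, c i.castSucc * algebraMap A K (a' i)) - c (Fin.last n)) • f (w (Fin.last n)) := by
    intro a'
    rw [Fin.sum_univ_castSucc] at hc
    have h1 : ∀ i, c i.castSucc • f (shear w a' i) = c i.castSucc • (f ∘ w) i.castSucc +
        (c i.castSucc * algebraMap A K (a' i)) • f (w (Fin.last n)) := fun i => by
      rw [shear, map_add, map_smul, smul_add, mul_smul, algebraMap_smul]
      rfl
    rw [Finset.sum_congr rfl fun i _ => h1 i, Finset.sum_add_distrib, ← Finset.sum_smul,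
      eq_neg_of_add_eq_zero_left hc, sub_smul, Function.comp_apply, neg_add_eq_sub]
  have hmem : ∀ a' : Fin n → A, ((∑ i, c i.castSucc * algebraMap A K (a' i)) - c (Fin.last n)) ≠ 0 →
      f (w (Fin.last n)) ∈ Submodule.span K (Set.range (f ∘ shear w a')) := by
    intro a' ha'
    rw [← inv_smul_smul₀ ha' (f (w (Fin.last n))), ← key a']
    exact Submodule.smul_mem _ _ (Submodule.sum_mem _ fun i _ =>
      Submodule.smul_mem _ _ (Submodule.subset_span ⟨i, rfl⟩))
  have h0 : (∑ i, c i.castSucc * algebraMap A K (a i)) - c (Fin.last n) = 0 :=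
    not_not.1 fun h => hbad (hmem a h)
  obtain ⟨i, hi⟩ : ∃ i : Fin n, c i.castSucc ≠ 0 := by
    by_contra hall
    push Not at hall
    have hl : c (Fin.last n) = 0 := by
      simpa [hall] using h0
    induction j using Fin.lastCases with
    | last => exact hj hl
    | cast i => exact hj (hall i)
  refine ⟨i, fun b hb => hmem _ ?_⟩
  have : (∑ l, c l.castSucc * algebraMap A K ((a + Pi.single i b : Fin n → A) l)) =
      (∑ l, c l.castSucc * algebraMap A K (a l)) + c i.castSucc * algebraMap A K b := by
    simp only [Pi.add_apply, map_add, mul_add, Finset.sum_add_distrib]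
    congr 1
    rw [Finset.sum_eq_single i (fun l _ hl => by rw [Pi.single_eq_of_ne hl, map_zero, mul_zero])
      (fun h => absurd (Finset.mem_univ i) h), Pi.single_eq_same]
  rw [this, add_sub_right_comm, h0, zero_add]
  exact mul_ne_zero hi hb

theorem span_le_span_shear {K : Type*} [Field K] [Algebra A K] {V : Type*} [AddCommGroup V]
    [Module K V] [Module A V] [IsScalarTower A K V] {n : ℕ} (f : M →ₗ[A] V) (w : Fin (n + 1) → M)
    (a : Fin n → A) :
    Submodule.span K (Set.range (f ∘ w)) ≤
      Submodule.span K (Set.range (f ∘ shear w a)) ⊔ Submodule.span K {f (w (Fin.last n))} := by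
  rw [Submodule.span_le]
  rintro _ ⟨j, rfl⟩
  induction j using Fin.lastCases with
  | last => exact Submodule.mem_sup_right (Submodule.subset_span rfl)
  | cast i =>
    have : (f ∘ w) i.castSucc = f (shear w a i) - algebraMap A K (a i) • f (w (Fin.last n)) := by
      rw [shear, map_add, map_smul, algebraMap_smul, Function.comp_apply, add_sub_cancel_right]
    rw [this, SetLike.mem_coe, sub_eq_add_neg, ← neg_smul]
    exact Submodule.add_mem_sup (Submodule.subset_span ⟨i, rfl⟩)
      (Submodule.smul_mem _ _ (Submodule.subset_span rfl))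

section main

variable [IsNoetherianRing A] {k r : ℕ}
  (e : ∀ p : PrimeSpectrum A, p.asIdeal.height ≤ k →
    (LocalizedModule p.asIdeal.primeCompl M ≃ₗ[Localization.AtPrime p.asIdeal]
      (Fin r → Localization.AtPrime p.asIdeal)))

/-- The rank of a family in the fibre at `p`. -/
noncomputable def rk (p : PrimeSpectrum A) (hp : p.asIdeal.height ≤ k) {n : ℕ}
    (w : Fin n → M) : ℕ :=
  finrank p.asIdeal.ResidueField (Submodule.span p.asIdeal.ResidueField (Set.range (chi p (e p hp) ∘ w)))

/-- Basicness with respect to the dimension function `k - height`. -/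
def Basic {n : ℕ} (w : Fin n → M) : Prop :=
  ∀ (p : PrimeSpectrum A) (hp : p.asIdeal.height ≤ k) (t : ℕ),
    p.asIdeal.height + t ≤ k → min n (t + 1) ≤ rk e p hp w

omit [IsNoetherianRing A] in
/-- The locus where a family has rank at most `s` is closed among primes of low height. -/
theorem exists_closed_rank_le {n : ℕ} (w : Fin n → M) (s : ℕ) :
    ∃ X : Set (PrimeSpectrum A), IsClosed X ∧ ∀ [Module.Finite A M] (p : PrimeSpectrum A)
      (hp : p.asIdeal.height ≤ k), p ∈ X ↔ rk e p hp w ≤ s := by
  classical
  by_cases hs : r ≤ s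
  · refine ⟨Set.univ, isClosed_univ, fun p hp => ⟨fun _ => ?_, fun _ => trivial⟩⟩
    exact le_trans ((Submodule.finrank_le _).trans_eq (finrank_fin_fun _)) hs
  by_cases hfin : Module.Finite A M
  swap
  · exact ⟨Set.univ, isClosed_univ, fun p hp => absurd ‹_› hfin⟩
  refine ⟨⋂ u : Fin (r - s - 1) → M,
    Module.support A (M ⧸ (Submodule.span A (Set.range w) ⊔ Submodule.span A (Set.range u))),
    isClosed_iInter fun u => by rw [Module.support_eq_zeroLocus]; exact PrimeSpectrum.isClosed_zeroLocus _,
    fun p hp => ?_⟩
  let K := p.asIdeal.ResidueField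
  let f := chi p (e p hp)
  have hspan : ∀ u : Fin (r - s - 1) → M,
      Submodule.span K (f '' ((Submodule.span A (Set.range w) ⊔ Submodule.span A (Set.range u) :
        Submodule A M) : Set M)) =
      Submodule.span K (Set.range (f ∘ w)) ⊔ Submodule.span K (Set.range (f ∘ u)) := by
    intro u
    apply le_antisymm
    · rw [Submodule.span_le, ← Submodule.span_union]
      rintro _ ⟨x, hx, rfl⟩
      have : f x ∈ (Submodule.span A (f '' (Set.range w ∪ Set.range u)) : Submodule A _) := by
        rw [Submodule.span_image]
        exact Submodule.mem_map_of_mem hx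
      rw [← Submodule.span_union, SetLike.mem_coe]
      rw [Set.image_union, ← Set.range_comp, ← Set.range_comp] at this
      exact Submodule.span_subset_span A K _ this
    · refine sup_le (Submodule.span_le.2 ?_) (Submodule.span_le.2 ?_) <;> rintro _ ⟨i, rfl⟩
      · exact Submodule.subset_span ⟨_, Submodule.mem_sup_left (Submodule.subset_span ⟨i, rfl⟩), rfl⟩
      · exact Submodule.subset_span ⟨_, Submodule.mem_sup_right (Submodule.subset_span ⟨i, rfl⟩), rfl⟩
  rw [Set.mem_iInter]
  constructor
  · intro hall
    by_contra hlt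
    push Not at hlt
    have key : ∀ (d : ℕ) (U : Submodule K (Fin r → K)), r ≤ finrank K U + d →
        ∃ u : Fin d → M, U ⊔ Submodule.span K (Set.range (f ∘ u)) = ⊤ := by
      intro d
      induction d with
      | zero =>
          intro U hU
          refine ⟨Fin.elim0, ?_⟩
          have : U = ⊤ := Submodule.eq_top_of_finrank_eq
            (le_antisymm (Submodule.finrank_le _) (by rw [finrank_fin_fun]; simpa using hU))
          rw [this, top_sup_eq]
      | succ d ih =>
          intro U hU
          by_cases hUtop : U = ⊤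
          · exact ⟨fun _ => 0, by rw [hUtop, top_sup_eq]⟩
          obtain ⟨x, hx⟩ : ∃ x, f x ∉ U := by
            by_contra hcon
            push Not at hcon
            apply hUtop
            rw [eq_top_iff, ← span_range_chi p (e p hp), Submodule.span_le]
            rintro _ ⟨x, rfl⟩
            exact hcon x
          have hlt' : finrank K U < finrank K ↥(U ⊔ Submodule.span K {f x}) := by
            refine Submodule.finrank_lt_finrank_of_lt (lt_of_le_of_ne le_sup_left fun heq => hx ?_)
            rw [heq]
            exact Submodule.mem_sup_right (Submodule.subset_span rfl)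
          obtain ⟨u, hu⟩ := ih (U ⊔ Submodule.span K {f x}) (by omega)
          refine ⟨Fin.cons x u, ?_⟩
          rw [← hu, sup_assoc, ← Submodule.span_union]
          congr 2
          rw [Set.range_comp, Fin.range_cons, Set.image_insert_eq, ← Set.range_comp, Set.insert_eq]
    unfold rk at hlt
    obtain ⟨u, hu⟩ := key (r - s - 1) (Submodule.span K (Set.range (f ∘ w)))
      ((show r ≤ s + 1 + (r - s - 1) by omega).trans (Nat.add_le_add_right hlt _))
    refine (span_chi_eq_top_iff p (e p hp) _).1 ?_ (hall u)
    exact (hspan u).trans hu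
  · intro hle u
    by_contra hu
    have htop := (hspan u).symm.trans ((span_chi_eq_top_iff p (e p hp) _).2 hu)
    have h1 := Submodule.finrank_add_le_finrank_add_finrank
      (Submodule.span K (Set.range (f ∘ w))) (Submodule.span K (Set.range (f ∘ u)))
    rw [htop, finrank_top, finrank_fin_fun] at h1
    have h2 : finrank K (Submodule.span K (Set.range (f ∘ u))) ≤ r - s - 1 :=
      (finrank_range_le_card (f ∘ u)).trans_eq (Fintype.card_fin _)
    unfold rk at hle
    change finrank K (Submodule.span K (Set.range (f ∘ w))) ≤ s at hle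
    omega

variable [Module.Finite A M]

/-- Eisenbud–Evans shearing step. -/
theorem basic_step {m : ℕ} (w : Fin (m + 2) → M) (hw : Basic e w) :
    ∃ w' : Fin (m + 1) → M, Basic e w' := by
  classical
  choose X hXc hX using fun s => exists_closed_rank_le e w s
  choose I hI using fun s => (PrimeSpectrum.isClosed_iff_zeroLocus_ideal _).1 (hXc s)
  let P : Finset (PrimeSpectrum A) :=
    (Finset.range (k + 1)).biUnion fun t =>
      ((Ideal.finite_minimalPrimes_of_isNoetherianRing A (I (t + 1))).preimage
        (fun a _ b _ h => PrimeSpectrum.ext h) : Set.Finite _).toFinset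
  let Q := P.filter fun p => ∃ hp : p.asIdeal.height ≤ (k : ℕ∞), rk e p hp w ≤ m + 1
  have shear_exists : ∀ s : Finset (PrimeSpectrum A),
      (∀ p ∈ s, ∃ hp : p.asIdeal.height ≤ k, rk e p hp w ≤ m + 1) →
      ∃ a : Fin (m + 1) → A, ∀ p ∈ s, ∀ hp : p.asIdeal.height ≤ k,
        chi p (e p hp) (w (Fin.last _)) ∈
          Submodule.span p.asIdeal.ResidueField (Set.range (chi p (e p hp) ∘ shear w a)) := by
    intro s
    induction s using Finset.strongInduction with
    | H s ih =>
      intro hs
      rcases s.eq_empty_or_nonempty with rfl | hne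
      · exact ⟨0, by simp⟩
      obtain ⟨p, hp, hmin⟩ := s.exists_minimal hne
      obtain ⟨a, ha⟩ := ih (s.erase p) (Finset.erase_ssubset hp)
        (fun q hq => hs q (Finset.mem_of_mem_erase hq))
      obtain ⟨hpk, hrk⟩ := hs p hp
      by_cases hgood : chi p (e p hpk) (w (Fin.last _)) ∈
          Submodule.span p.asIdeal.ResidueField (Set.range (chi p (e p hpk) ∘ shear w a))
      · refine ⟨a, fun q hq hqk => ?_⟩
        by_cases hqp : q = p
        · subst hqp; exact hgood
        · exact ha q (Finset.mem_erase.2 ⟨hqp, hq⟩) hqk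
      have hdep : ¬ LinearIndependent p.asIdeal.ResidueField (chi p (e p hpk) ∘ w) := fun hli => by
        have := finrank_span_eq_card hli
        rw [Fintype.card_fin] at this
        unfold rk at hrk
        omega
      obtain ⟨i, hi⟩ := shear_good _ w a hdep hgood
      obtain ⟨b, hb, hbp⟩ : ∃ b, (∀ q ∈ s.erase p, b ∈ q.asIdeal) ∧ b ∉ p.asIdeal := by
        have : ¬ (∏ q ∈ s.erase p, q.asIdeal) ≤ p.asIdeal := by
          rw [Ideal.IsPrime.prod_le p.isPrime]
          rintro ⟨q, hq, hle⟩
          refine (Finset.mem_erase.1 hq).1 (le_antisymm hle ?_)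
          exact hmin (Finset.mem_of_mem_erase hq) hle
        obtain ⟨b, hb, hbp⟩ := SetLike.not_le_iff_exists.1 this
        exact ⟨b, fun q hq => (Ideal.prod_le_inf.trans (Finset.inf_le hq)) hb, hbp⟩
      refine ⟨a + Pi.single i b, fun q hq hqk => ?_⟩
      by_cases hqp : q = p
      · subst hqp
        exact hi b (by rwa [Ne, Ideal.algebraMap_residueField_eq_zero])
      · have hqe := Finset.mem_erase.2 ⟨hqp, hq⟩
        convert ha q hqe hqk using 3
        funext l
        simp only [Function.comp_apply, shear, map_add, map_smul]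
        congr 1
        rw [Pi.add_apply, add_smul]
        refine add_eq_left.2 ?_
        by_cases hl : l = i
        · subst hl
          rw [Pi.single_eq_same, ← algebraMap_smul q.asIdeal.ResidueField,
            Ideal.algebraMap_residueField_eq_zero.2 (hb q hqe), zero_smul]
        · rw [Pi.single_eq_of_ne hl, zero_smul]
  obtain ⟨a, ha⟩ := shear_exists Q (fun p hp => (Finset.mem_filter.1 hp).2)
  refine ⟨shear w a, fun p hp t ht => ?_⟩
  let K := p.asIdeal.ResidueField
  let f := chi p (e p hp)
  have h1 := hw p hp t ht
  have h2 : rk e p hp w ≤ rk e p hp (shear w a) + 1 := by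
    have hle := Submodule.finrank_mono (span_le_span_shear (K := K) f w a)
    have hsup := Submodule.finrank_add_le_finrank_add_finrank
      (Submodule.span K (Set.range (f ∘ shear w a))) (Submodule.span K {f (w (Fin.last _))})
    have hone : finrank K (Submodule.span K {f (w (Fin.last _))}) ≤ 1 := by
      refine (finrank_span_le_card _).trans ?_
      simp
    exact hle.trans (hsup.trans (Nat.add_le_add_left hone _))
  by_cases hbig : t + 2 ≤ rk e p hp w ∨ m + 2 ≤ rk e p hp w
  · rcases hbig with h | h <;> omega
  push Not at hbig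
  have heq : rk e p hp w = t + 1 := by omega
  have hpQ : p ∈ Q := by
    refine Finset.mem_filter.2 ⟨Finset.mem_biUnion.2 ⟨t, ?_, ?_⟩, hp, by omega⟩
    · refine Finset.mem_range.2 (Nat.lt_succ_of_le ?_)
      exact_mod_cast le_trans le_add_self ht
    rw [Set.Finite.mem_toFinset]
    show p.asIdeal ∈ (I (t + 1)).minimalPrimes
    have hpX : I (t + 1) ≤ p.asIdeal := by
      have : p ∈ X (t + 1) := (hX (t + 1) p hp).2 heq.le
      rwa [hI, PrimeSpectrum.mem_zeroLocus, SetLike.coe_subset_coe] at this
    refine ⟨⟨p.isPrime, hpX⟩, fun q ⟨hq, hqI⟩ hqp => ?_⟩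
    rcases eq_or_lt_of_le hqp with h | h
    · exact h.ge
    exfalso
    haveI := hq
    have hne : q.height ≠ ⊤ := ne_top_of_le_ne_top (ENat.coe_ne_top k)
      ((Ideal.height_mono hqp).trans hp)
    have hlt : q.height + 1 ≤ p.asIdeal.height :=
      Order.add_one_le_of_lt (Ideal.height_strict_mono_of_isPrime h)
    have hq' : (⟨q, hq⟩ : PrimeSpectrum A).asIdeal.height + ((t + 1 : ℕ) : ℕ∞) ≤ k := by
      refine le_trans ?_ ht
      push_cast
      rw [add_comm (t : ℕ∞) 1, ← add_assoc]
      exact add_le_add hlt le_rfl
    have hqk : (⟨q, hq⟩ : PrimeSpectrum A).asIdeal.height ≤ k := le_trans le_self_add hq'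
    have h3 := hw ⟨q, hq⟩ hqk (t + 1) hq'
    have h4 : rk e ⟨q, hq⟩ hqk w ≤ t + 1 := (hX (t + 1) ⟨q, hq⟩ hqk).1 (by
      rw [hI, PrimeSpectrum.mem_zeroLocus, SetLike.coe_subset_coe]; exact hqI)
    omega
  have hgood := ha p hpQ hp
  have hle : rk e p hp w ≤ rk e p hp (shear w a) := by
    refine Submodule.finrank_mono ((span_le_span_shear (K := K) f w a).trans ?_)
    exact sup_le le_rfl ((Submodule.span_singleton_le_iff_mem _ _).2 hgood)
  omega

theorem exists_basic_element (hkr : k < r) :
    ∃ m : M, ∀ (p : PrimeSpectrum A) (hp : p.asIdeal.height ≤ k), chi p (e p hp) m ≠ 0 := by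
  classical
  obtain ⟨n, g, hg⟩ := Module.Finite.exists_fin (R := A) (M := M)
  have hstart : Basic e (Fin.cons 0 g : Fin (n + 1) → M) := by
    intro p hp t ht
    have htop : rk e p hp (Fin.cons 0 g : Fin (n + 1) → M) = r := by
      unfold rk
      have : Submodule.span p.asIdeal.ResidueField
          (Set.range (chi p (e p hp) ∘ (Fin.cons 0 g : Fin (n + 1) → M))) = ⊤ := by
        rw [eq_top_iff, ← span_range_chi p (e p hp), Submodule.span_le]
        rintro _ ⟨x, rfl⟩
        have hx : chi p (e p hp) x ∈
            Submodule.map (chi p (e p hp)) (Submodule.span A (Set.range g)) :=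
          Submodule.mem_map_of_mem (by rw [hg]; exact Submodule.mem_top)
        rw [← Submodule.span_image, ← Set.range_comp] at hx
        refine Submodule.span_mono ?_ (Submodule.span_subset_span A _ _ hx)
        rintro _ ⟨i, rfl⟩
        exact ⟨i.succ, by simp⟩
      rw [this, finrank_top, finrank_fin_fun]
    have : t ≤ k := by exact_mod_cast le_trans le_add_self ht
    omega
  have desc : ∀ (n : ℕ) (w : Fin (n + 1) → M), Basic e w → ∃ w' : Fin 1 → M, Basic e w' := by
    intro n
    induction n with
    | zero => exact fun w hw => ⟨w, hw⟩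
    | succ n ih =>
        intro w hw
        obtain ⟨w', hw'⟩ := basic_step e w hw
        exact ih w' hw'
  obtain ⟨w', hw'⟩ := desc n _ hstart
  refine ⟨w' 0, fun p hp h0 => ?_⟩
  have h1 := hw' p hp 0 (by simpa using hp)
  have : rk e p hp w' = 0 := by
    unfold rk
    have : Submodule.span p.asIdeal.ResidueField (Set.range (chi p (e p hp) ∘ w')) = ⊥ := by
      rw [Submodule.span_eq_bot]
      rintro _ ⟨i, rfl⟩
      rw [Subsingleton.elim i 0]
      exact h0
    rw [this, finrank_bot]
  omega

end main

/-- Quotient of a free module by a vector with a unit coordinate. -/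
theorem nonempty_quotient_equiv {R : Type*} [CommRing R] {r : ℕ} (c : Fin (r + 1) → R)
    (i : Fin (r + 1)) (hc : IsUnit (c i)) :
    Nonempty (((Fin (r + 1) → R) ⧸ Submodule.span R {c}) ≃ₗ[R] (Fin r → R)) := by
  obtain ⟨v, hv⟩ := hc
  let Φ : (Fin (r + 1) → R) →ₗ[R] (Fin r → R) :=
    LinearMap.pi fun j => LinearMap.proj (i.succAbove j) -
      (c (i.succAbove j) * (v⁻¹ : Rˣ)) • LinearMap.proj i
  have hΦ : ∀ x j, Φ x j = x (i.succAbove j) - c (i.succAbove j) * (v⁻¹ : Rˣ) * x i := fun x j => by
    simp [Φ]
  have hsurj : Function.Surjective Φ := fun y => ⟨i.insertNth 0 y, funext fun j => by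
    rw [hΦ, Fin.insertNth_apply_succAbove, Fin.insertNth_apply_same, mul_zero, sub_zero]⟩
  have hker : LinearMap.ker Φ = Submodule.span R {c} := by
    apply le_antisymm
    · intro x hx
      refine Submodule.mem_span_singleton.2 ⟨(v⁻¹ : Rˣ) * x i, funext fun j => ?_⟩
      rcases Fin.eq_self_or_eq_succAbove i j with rfl | ⟨j', rfl⟩
      · rw [Pi.smul_apply, smul_eq_mul, ← hv, mul_right_comm, Units.inv_mul, one_mul]
      · have := congrFun (LinearMap.mem_ker.1 hx) j'
        rw [hΦ, Pi.zero_apply, sub_eq_zero] at this
        rw [Pi.smul_apply, smul_eq_mul, this]; ring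
    · rw [Submodule.span_le, Set.singleton_subset_iff]
      refine funext fun j => ?_
      rw [hΦ, ← hv, mul_assoc, Units.inv_mul, mul_one, sub_self]
      rfl
  rw [← hker]
  exact ⟨Φ.quotKerEquivOfSurjective hsurj⟩

/-- The main theorem. -/
theorem exists_free_submodule [IsNoetherianRing A] (k : ℕ)
    (hAss : ∀ p ∈ associatedPrimes A A, p.height ≤ k) :
    ∀ (d : ℕ) (M : Type v) [AddCommGroup M] [Module A M] [Module.Finite A M],
    (∀ p : PrimeSpectrum A, p.asIdeal.height ≤ k →
      Nonempty (LocalizedModule p.asIdeal.primeCompl M ≃ₗ[Localization.AtPrime p.asIdeal]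
        (Fin (k + d) → Localization.AtPrime p.asIdeal))) →
    ∃ N : Submodule A M, Nonempty (N ≃ₗ[A] (Fin d → A)) ∧
      ∀ p : PrimeSpectrum A, p.asIdeal.height ≤ k →
        Nonempty (LocalizedModule p.asIdeal.primeCompl (M ⧸ N) ≃ₗ[Localization.AtPrime p.asIdeal]
          (Fin k → Localization.AtPrime p.asIdeal)) := by
  intro d
  induction d with
  | zero =>
      intro M _ _ _ hM
      refine ⟨⊥, ⟨LinearEquiv.ofSubsingleton _ _⟩, fun p hp => ?_⟩
      obtain ⟨e⟩ := hM p hp
      let q := Submodule.quotEquivOfEqBot (⊥ : Submodule A M) rfl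
      exact ⟨((IsLocalizedModule.mapEquiv p.asIdeal.primeCompl
        (LocalizedModule.mkLinearMap p.asIdeal.primeCompl (M ⧸ (⊥ : Submodule A M)))
        (LocalizedModule.mkLinearMap p.asIdeal.primeCompl M) (Localization.AtPrime p.asIdeal) q)).trans e⟩
  | succ d ih =>
      intro M _ _ _ hM
      classical
      let e := fun p hp => (hM p hp).some
      obtain ⟨m, hm⟩ := exists_basic_element e (by omega)
      have hunit : ∀ p hp, ∃ i, IsUnit (coord p (e p hp) m i) := fun p hp => by
        by_contra hcon
        push Not at hcon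
        refine hm p hp (funext fun i => ?_)
        rw [chi_apply, Pi.zero_apply, IsLocalRing.residue_eq_zero_iff]
        exact hcon i
      have hinj : ∀ a : A, a • m = 0 → a = 0 := by
        intro a ha
        by_contra hne
        obtain ⟨P, hP, hle⟩ := exists_le_isAssociatedPrime_of_isNoetherianRing A a hne
        haveI := hP.isPrime
        obtain ⟨i, hi⟩ := hunit ⟨P, hP.isPrime⟩ (hAss P hP)
        have h0 : algebraMap A (Localization.AtPrime P) a *
            coord ⟨P, hP.isPrime⟩ (e ⟨P, hP.isPrime⟩ (hAss P hP)) m i = 0 := by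
          rw [← Algebra.smul_def, ← Pi.smul_apply, ← map_smul, ha, map_zero]
          rfl
        obtain ⟨s, hs⟩ := (IsLocalization.map_eq_zero_iff P.primeCompl _ a).1
          (hi.mul_left_eq_zero.1 h0)
        refine s.2 (hle ?_)
        rw [Submodule.mem_colon_singleton]
        simpa using hs
      let L := M ⧸ Submodule.span A {m}
      have hL : ∀ p : PrimeSpectrum A, p.asIdeal.height ≤ k →
          Nonempty (LocalizedModule p.asIdeal.primeCompl L ≃ₗ[Localization.AtPrime p.asIdeal]
            (Fin (k + d) → Localization.AtPrime p.asIdeal)) := by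
        intro p hp
        obtain ⟨i, hi⟩ := hunit p hp
        obtain ⟨q⟩ := nonempty_quotient_equiv (r := k + d) (coord p (e p hp) m) i hi
        have hmap : Submodule.map (e p hp).toLinearMap
            ((Submodule.span A {m}).localized p.asIdeal.primeCompl) =
            Submodule.span (Localization.AtPrime p.asIdeal) {coord p (e p hp) m} := by
          rw [Submodule.localized, Submodule.localized'_span, Set.image_singleton,
            Submodule.map_span, Set.image_singleton]
          rfl
        exact ⟨((localizedQuotientEquiv p.asIdeal.primeCompl (Submodule.span A {m})).symm.trans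
          (Submodule.Quotient.equiv _ _ (e p hp) hmap)).trans q⟩
      obtain ⟨N', ⟨φ⟩, hN'⟩ := ih L hL
      refine ⟨N'.comap (Submodule.span A {m}).mkQ, ?_, fun p hp => ?_⟩
      · let ψ : (Fin d → A) →ₗ[A] L := N'.subtype ∘ₗ φ.symm.toLinearMap
        choose g hg using fun j => Submodule.mkQ_surjective (Submodule.span A {m}) (ψ (Pi.single j 1))
        let G : (Fin (d + 1) → A) →ₗ[A] M := Fintype.linearCombination A (Fin.cons m g)
        have hG : ∀ x, (Submodule.span A {m}).mkQ (G x) = ψ (fun j => x j.succ) := by
          intro x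
          simp only [G, Fintype.linearCombination_apply, Fin.sum_univ_succ, Fin.cons_zero,
            Fin.cons_succ, map_add, map_sum, map_smul]
          rw [show (Submodule.span A {m}).mkQ m = 0 from
              (Submodule.Quotient.mk_eq_zero _).2 (Submodule.mem_span_singleton_self m), smul_zero,
            zero_add]
          rw [Finset.sum_congr rfl (fun (j : Fin d) _ => show x j.succ • (Submodule.span A {m}).mkQ (g j) =
            ψ (x j.succ • Pi.single j 1) by rw [map_smul, hg j]), ← map_sum]
          congr 1
          exact (pi_eq_sum_univ' _).symm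
        have hψinj : Function.Injective ψ := N'.injective_subtype.comp φ.symm.injective
        have hGinj : Function.Injective G := by
          rw [← LinearMap.ker_eq_bot, LinearMap.ker_eq_bot']
          intro x hx
          have h1 : (fun j : Fin d => x j.succ) = 0 := hψinj (by rw [← hG, hx, map_zero, map_zero])
          have h0 : x 0 • m = 0 := by
            have := hx
            simp only [G, Fintype.linearCombination_apply, Fin.sum_univ_succ, Fin.cons_zero,
              Fin.cons_succ] at this
            rw [Finset.sum_eq_zero (fun (j : Fin d) _ => show x j.succ • g j = 0 by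
              rw [show x j.succ = 0 from congrFun h1 j, zero_smul]), add_zero] at this
            exact this
          funext j
          induction j using Fin.cases with
          | zero => exact hinj _ h0
          | succ j => exact congrFun h1 j
        have hrange : LinearMap.range G = N'.comap (Submodule.span A {m}).mkQ := by
          apply le_antisymm
          · rintro _ ⟨x, rfl⟩
            show (Submodule.span A {m}).mkQ (G x) ∈ N'
            rw [hG]
            exact (φ.symm _).2
          · intro y hy
            let z : Fin d → A := φ ⟨_, hy⟩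
            have hz : ψ z = (Submodule.span A {m}).mkQ y := by simp [ψ, z]
            have : y - G (Fin.cons 0 z) ∈ Submodule.span A {m} := by
              rw [← Submodule.Quotient.mk_eq_zero, ← Submodule.mkQ_apply, map_sub, hG]
              simp only [Fin.cons_succ]
              rw [hz, sub_self]
            obtain ⟨c, hc⟩ := Submodule.mem_span_singleton.1 this
            refine ⟨Pi.single 0 c + Fin.cons 0 z, ?_⟩
            rw [map_add]
            have : G (Pi.single 0 c) = c • m := by
              simp [G, Fintype.linearCombination_apply_single]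
            rw [this, hc, sub_add_cancel]
        exact ⟨(LinearEquiv.ofEq _ _ hrange.symm).trans (LinearEquiv.ofInjective G hGinj).symm⟩
      · obtain ⟨e'⟩ := hN' p hp
        have hsur : LinearMap.ker (N'.mkQ ∘ₗ (Submodule.span A {m}).mkQ) =
            N'.comap (Submodule.span A {m}).mkQ := by
          rw [LinearMap.ker_comp, Submodule.ker_mkQ]
        let q : (M ⧸ N'.comap (Submodule.span A {m}).mkQ) ≃ₗ[A] L ⧸ N' :=
          (Submodule.quotEquivOfEq _ _ hsur.symm).trans
            (LinearMap.quotKerEquivOfSurjective _
              ((Submodule.mkQ_surjective _).comp (Submodule.mkQ_surjective _)))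
        exact ⟨((IsLocalizedModule.mapEquiv p.asIdeal.primeCompl
          (LocalizedModule.mkLinearMap p.asIdeal.primeCompl _)
          (LocalizedModule.mkLinearMap p.asIdeal.primeCompl _)
          (Localization.AtPrime p.asIdeal) q)).trans e'⟩

end Groth.Agent.SerreBasicLib
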